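import Mathlib
import Cfsg.Agent.Lib.M11Order.Unique
import Cfsg.Agent.Lib.Golay.Small

/-!
The groups of order 7920 on eleven points: subgroups of order divisible by 45 and prime to 11 fix a point.
-/

set_option autoImplicit false

namespace Cfsg.Agent.GroupStructure3.MathieuSub

open MulAction

/-- An action on eleven points in which a non-trivial element fixes at most three points. -/
theorem exists_fixed_point {G α : Type*} [Group G] [Finite G] [MulAction G α] [Finite α]
    (hα : Nat.card α = 11)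
    (hfix : ∀ g : G, ∀ T : Finset α, T.card = 4 → (∀ t ∈ T, g • t = t) → g = 1)
    (h27 : ¬ 27 ∣ Nat.card G) (A : Subgroup G) (h45 : 45 ∣ Nat.card A)
    (h11 : ¬ 11 ∣ Nat.card A) : ∃ i : α, ∀ a ∈ A, a • i = i := by
  classical
  haveI : Fintype α := Fintype.ofFinite α
  haveI : Fact (Nat.Prime 3) := ⟨Nat.prime_three⟩
  haveI : Fact (Nat.Prime 5) := ⟨by norm_num⟩
  -- nontrivial elements fix at most three points
  have few : ∀ {g : G} {T : Finset α}, 4 ≤ T.card → (∀ t ∈ T, g • t = t) → g = 1 := by
    intro g T hT ht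
    obtain ⟨T', hT', hc⟩ := Finset.exists_subset_card_eq hT
    exact hfix g T' hc fun t h => ht t (hT' h)
  obtain ⟨Q, hQA, hQ⟩ : ∃ Q : Subgroup A, True ∧ Nat.card Q = 3 ^ 2 := by
    obtain ⟨Q, hQ⟩ := Sylow.exists_subgroup_card_pow_prime (G := A) 3 (n := 2)
      (dvd_trans (by norm_num) h45)
    exact ⟨Q, trivial, hQ⟩
  have hQp : IsPGroup 3 Q := IsPGroup.of_card hQ
  have hQ9 : ∃ y : α, 9 ≤ (orbit A y).ncard := by
    by_contra hno
    push Not at hno
    -- every point has a non-trivial stabiliser in `Q`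
    have hst : ∀ y : α, ∃ q : Q, q ≠ 1 ∧ q • y = y := by
      intro y
      have hle : Nat.card (orbit Q y) ≤ (orbit A y).ncard := by
        rw [Nat.card_coe_set_eq]
        refine Set.ncard_le_ncard ?_ (Set.toFinite _)
        rintro _ ⟨q, rfl⟩
        exact ⟨q.1, rfl⟩
      have h1 := (stabilizer Q y).card_mul_index
      rw [index_stabilizer, hQ, ← Nat.card_coe_set_eq] at h1
      have hlt := lt_of_le_of_lt hle (hno y)
      have hne : stabilizer Q y ≠ ⊥ := fun e => by
        rw [e, Subgroup.card_bot, one_mul] at h1; omega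
      obtain ⟨q, hq, hq1⟩ := (stabilizer Q y).bot_or_exists_ne_one.resolve_left hne
      exact ⟨q, hq1, hq⟩
    let F : Finset α := Finset.univ.filter fun y => y ∈ fixedPoints Q α
    have hFmod : 11 ≡ F.card [MOD 3] := by
      have := hQp.card_modEq_card_fixedPoints α
      rw [hα] at this
      rwa [Nat.card_eq_fintype_card, Fintype.card_subtype] at this
    obtain ⟨q₀, hq₀⟩ : ∃ q : Q, q ≠ 1 := by
      haveI : Nontrivial Q := Finite.one_lt_card_iff_nontrivial.1 (by rw [hQ]; norm_num)
      exact exists_ne 1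
    have hF4 : F.card < 4 := by
      by_contra h
      push Not at h
      exact hq₀ (Subtype.ext (Subtype.ext (few (g := ((q₀ : A) : G)) h fun t ht =>
        (Finset.mem_filter.1 ht).2 q₀)))
    have hF2 : F.card = 2 := by
      have h2 : F.card % 3 = 2 := hFmod.symm
      omega
    haveI : Fintype Q := Fintype.ofFinite Q
    choose q hq1 hq using hst
    have hinj : Set.InjOn q ↑(Fᶜ) := by
      intro y hy y' hy' e
      by_contra hne
      rw [Finset.mem_coe, Finset.mem_compl] at hy hy'
      refine hq1 y (Subtype.ext (Subtype.ext (few (g := ((q y : A) : G))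
        (T := insert y (insert y' F)) ?_ ?_)))
      · rw [Finset.card_insert_of_notMem (by simp [hy, hne]), Finset.card_insert_of_notMem hy', hF2]
      · intro t ht
        simp only [Finset.mem_insert] at ht
        rcases ht with rfl | rfl | ht
        · exact hq t
        · have := hq t
          rwa [← e] at this
        · exact (Finset.mem_filter.1 ht).2 (q y)
    have hle : (Fᶜ).card ≤ (Finset.univ.erase (1 : Q)).card :=
      Finset.card_le_card_of_injOn q (fun y _ => Finset.mem_erase.2 ⟨hq1 y, Finset.mem_univ _⟩) hinj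
    rw [Finset.card_compl, Finset.card_erase_of_mem (Finset.mem_univ _), Finset.card_univ,
      ← Nat.card_eq_fintype_card, hα, ← Nat.card_eq_fintype_card, hQ, hF2] at hle
    omega
  obtain ⟨y, hy⟩ := hQ9
  set O := orbit A y with hO
  have hdvd : O.ncard ∣ Nat.card A := by
    rw [hO, ← index_stabilizer]; exact Subgroup.index_dvd_card _
  have hle : O.ncard ≤ 11 := hα ▸ Set.ncard_le_card O
  have h9 : O.ncard ≠ 9 := by
    intro h9
    obtain ⟨x, hx⟩ := exists_prime_orderOf_dvd_card' 5 (dvd_trans (by norm_num : 5 ∣ 45) h45)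
    have hxp : IsPGroup 5 (Subgroup.zpowers x) :=
      IsPGroup.of_card (n := 1) (by rw [Nat.card_zpowers, hx, pow_one])
    have hm := hxp.card_modEq_card_fixedPoints O
    rw [Nat.card_coe_set_eq, h9] at hm
    let T : Finset α := O.toFinite.toFinset.filter fun t => ((x : G)) • t = t
    have hT : Nat.card (fixedPoints (Subgroup.zpowers x) O) ≤ T.card := by
      rw [← Nat.card_eq_finsetCard]
      refine Nat.card_le_card_of_injective (fun p => ⟨(p.1 : α), ?_⟩) ?_
      · refine Finset.mem_filter.2 ⟨(Set.Finite.mem_toFinset _).2 p.1.2, ?_⟩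
        exact congrArg Subtype.val (p.2 ⟨x, Subgroup.mem_zpowers x⟩)
      · intro a b h
        exact Subtype.ext (Subtype.ext (by simpa using congrArg Subtype.val h))
    have h4 : 4 ≤ T.card := by
      have hm' : Nat.card (fixedPoints (Subgroup.zpowers x) O) % 5 = 4 := hm.symm
      omega
    have : x = 1 := Subtype.ext (few h4 fun t ht => (Finset.mem_filter.1 ht).2)
    rw [this, orderOf_one] at hx
    norm_num at hx
  have h10 : O.ncard = 10 := by
    rcases (show O.ncard = 9 ∨ O.ncard = 10 ∨ O.ncard = 11 by omega) with h | h | h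
    · exact absurd h h9
    · exact h
    · exact absurd (h ▸ hdvd) h11
  obtain ⟨i, hi⟩ := Set.ncard_eq_one.1 (show (Oᶜ).ncard = 1 by
    have := Set.ncard_add_ncard_compl O
    omega)
  refine ⟨i, fun a ha => ?_⟩
  have : a • i ∈ Oᶜ := by
    intro h
    have hiO : i ∈ O := by
      obtain ⟨b, hb⟩ := h
      refine ⟨(⟨a, ha⟩ : A)⁻¹ * b, ?_⟩
      show ((⟨a, ha⟩ : A)⁻¹ * b) • y = i
      rw [mul_smul]
      show (⟨a, ha⟩ : A)⁻¹ • (b • y) = i
      rw [show b • y = a • i from hb]
      exact inv_smul_smul (⟨a, ha⟩ : A) i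
    exact absurd hiO (hi.symm.subset (Set.mem_singleton i))
  rwa [hi] at this

open Cfsg Cfsg.Agent.Golay.Basic Cfsg.Agent.Golay.Perm Cfsg.Agent.Golay.Small Cfsg.Agent.Golay.M24

/-- A simple group of order 7920 has a subgroup of order 720 containing a conjugate of every
subgroup of order divisible by 45 and prime to 11. -/
theorem exists_maximal {H : Type*} [Group H] [Finite H] (hH : Cfsg.IsM11 H) :
    ∃ K : Subgroup H, Nat.card K = 720 ∧ ∀ A : Subgroup H, 45 ∣ Nat.card A → ¬ 11 ∣ Nat.card A →
      ∃ h : H, A ≤ K.map (MulAut.conj h).toMonoidHom := by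
  classical
  obtain ⟨e⟩ := M11Order.Unique.equiv hH (⟨isSimple_M11K, card_M11K⟩ : Cfsg.IsM11 M11K)
  let D : Finset GolayPt := d0.erase (pt 0)
  have hmaps : ∀ g : M11K, ∀ p ∈ D, (g : Equiv.Perm GolayPt) p ∈ D := by
    intro g p hp
    rw [Finset.mem_erase] at hp ⊢
    exact ⟨fun h => hp.1 ((g : Equiv.Perm GolayPt).injective (h.trans (g.2.2 _ (by simp)).symm)),
      M12K_maps g.2.1 hp.2⟩
  letI act : MulAction H ↥D :=
    { smul := fun h p => ⟨(e h : Equiv.Perm GolayPt) p.1, hmaps _ _ p.2⟩
      one_smul := fun p => by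
        apply Subtype.ext
        show ((e 1 : M11K) : Equiv.Perm GolayPt) p.1 = p.1
        rw [map_one]; rfl
      mul_smul := fun a b p => by
        apply Subtype.ext
        show ((e (a * b) : M11K) : Equiv.Perm GolayPt) p.1 = _
        rw [map_mul]; rfl }
  have hcardD : Nat.card ↥D = 11 := by
    rw [Nat.card_eq_finsetCard, Finset.card_erase_of_mem pt0_mem_d0,
      show d0.card = 12 from baseDodecad_mem_card]
  have hfix : ∀ h : H, ∀ T : Finset ↥D, T.card = 4 → (∀ t ∈ T, h • t = t) → h = 1 := by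
    intro h T hT ht
    let ts : List GolayPt := pt 0 :: T.toList.map Subtype.val
    have hnd : ts.Nodup := List.nodup_cons.2 ⟨by
      intro hm
      obtain ⟨t, -, htv⟩ := List.mem_map.1 hm
      exact (Finset.mem_erase.1 t.2).1 htv, T.nodup_toList.map Subtype.val_injective⟩
    have hlen : ts.length = 5 := by simp [ts, hT]
    obtain ⟨g, hg, hgt⟩ := M12K_exists_tuple ts hlen.le hnd (by
      intro t ht'
      rcases List.mem_cons.1 ht' with rfl | hm
      · exact pt0_mem_d0
      · obtain ⟨u, -, rfl⟩ := List.mem_map.1 hm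
        exact (Finset.mem_erase.1 u.2).2)
    rw [hlen] at hgt
    have hfixts : ∀ z ∈ ts, (e h : Equiv.Perm GolayPt) z = z := by
      intro z hz
      rcases List.mem_cons.1 hz with rfl | hm
      · exact (e h).2.2 _ (by simp)
      · obtain ⟨u, hu, rfl⟩ := List.mem_map.1 hm
        exact congrArg Subtype.val (ht u (Finset.mem_toList.1 hu))
    have hbase : ∀ b ∈ basePre 5, ∃ i ∈ ([0, 1, 2, 3, 4] : List ℕ), pt i = b := by decide +kernel
    have h1 : g⁻¹ * (e h : Equiv.Perm GolayPt) * g = 1 := by
      refine five_fix_d0 (M12K.mul_mem (M12K.mul_mem (M12K.inv_mem hg) (e h).2.1) hg) fun b hb => ?_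
      obtain ⟨i, hi, rfl⟩ := hbase b hb
      have hm : g (pt i) ∈ ts := by
        rw [← hgt]
        exact List.mem_map.2 ⟨i, hi, rfl⟩
      rw [Equiv.Perm.mul_apply, Equiv.Perm.mul_apply, hfixts _ hm]
      exact g.symm_apply_apply _
    apply e.injective
    rw [map_one]
    refine Subtype.ext ?_
    rw [mul_assoc, inv_mul_eq_one] at h1
    exact mul_eq_right.1 h1.symm
  have htrans : ∀ i j : ↥D, ∃ h : H, h • i = j := by
    intro i j
    have key : ∀ z : ↥D, ∃ g : M11K, (g : Equiv.Perm GolayPt) (pt 1) = z.1 := by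
      intro z
      obtain ⟨g, hg, hgt⟩ := M12K_exists_tuple [pt 0, z.1] (by simp)
        (by simpa using Ne.symm (Finset.mem_erase.1 z.2).1) (by
          intro t ht'
          simp only [List.mem_cons, List.not_mem_nil, or_false] at ht'
          rcases ht' with rfl | rfl
          · exact pt0_mem_d0
          · exact (Finset.mem_erase.1 z.2).2)
      simp only [List.length_cons, List.length_nil, List.take, List.map_cons, List.map_nil,
        List.cons.injEq, and_true] at hgt
      exact ⟨⟨g, hg, fun p hp => by rw [List.mem_singleton.1 hp]; exact hgt.1⟩, hgt.2⟩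
    obtain ⟨a, ha⟩ := key i
    obtain ⟨b, hb⟩ := key j
    refine ⟨e.symm (b * a⁻¹), Subtype.ext ?_⟩
    show (e (e.symm (b * a⁻¹)) : Equiv.Perm GolayPt) i.1 = j.1
    rw [e.apply_symm_apply, ← hb]
    show (b : Equiv.Perm GolayPt) ((a : Equiv.Perm GolayPt).symm i.1) = _
    rw [← ha, Equiv.symm_apply_apply]
  obtain ⟨i₀⟩ : Nonempty ↥D := (Nat.card_pos_iff.1 (by rw [hcardD]; norm_num)).1
  refine ⟨stabilizer H i₀, ?_, fun A h45 h11 => ?_⟩
  · haveI : IsPretransitive H ↥D := ⟨htrans⟩
    have := (stabilizer H i₀).card_mul_index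
    rw [index_stabilizer_of_transitive, hcardD, hH.2] at this
    omega
  · obtain ⟨j, hj⟩ := exists_fixed_point (G := H) hcardD hfix (by rw [hH.2]; norm_num) A h45 h11
    obtain ⟨h, hh⟩ := htrans i₀ j
    refine ⟨h, fun a ha => ⟨h⁻¹ * a * h, ?_, by simp [mul_assoc]⟩⟩
    rw [SetLike.mem_coe, mem_stabilizer_iff, mul_smul, mul_smul, hh, hj a ha, ← hh, inv_smul_smul]
where
  baseDodecad_mem_card : Cfsg.Agent.Golay.Small.d0.card = 12 := by decide +kernel

end Cfsg.Agent.GroupStructure3.MathieuSub
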