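import Mathlib
import Cfsg.Agent.Lib.Golay.AutBig
import Cfsg.Agent.Lib.M24Module.FixCount

/-!
Fixed points of elements of M24 fixing two given points.
-/

set_option autoImplicit false

namespace Cfsg.Agent.GroupStructure3.MathieuSub

open Cfsg Cfsg.Agent.Golay.Basic Cfsg.Agent.Golay.Perm Cfsg.Agent.Golay.M24
  Cfsg.Agent.Golay.Trans Cfsg.Agent.Golay.AutBig

local notation "pG" => Equiv.Perm GolayPt

/-- The fixed points of a permutation. -/
def fixF (g : pG) : Finset GolayPt := Finset.univ.filter fun p => g p = p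

theorem mem_fixF {g : pG} {p : GolayPt} : p ∈ fixF g ↔ g p = p := by simp [fixF]

theorem fixF_mod {g : pG} {p : ℕ} [hp : Fact p.Prime] (hg : orderOf g = p) :
    (fixF g).card % p = 24 % p := by
  have hP : IsPGroup p (Subgroup.zpowers g) :=
    IsPGroup.of_card (n := 1) (by rw [Nat.card_zpowers, hg, pow_one])
  have h := hP.card_modEq_card_fixedPoints GolayPt
  have e : Nat.card (MulAction.fixedPoints (Subgroup.zpowers g) GolayPt) = (fixF g).card := by
    rw [← Nat.card_eq_finsetCard]
    refine Nat.card_congr (Equiv.subtypeEquivRight fun x => ?_)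
    rw [mem_fixF, MulAction.mem_fixedPoints]
    constructor
    · exact fun h => h ⟨g, Subgroup.mem_zpowers g⟩
    · intro h k
      obtain ⟨i, hi⟩ := Subgroup.mem_zpowers_iff.1 k.2
      show (k : pG) x = x
      rw [← hi]
      exact Equiv.Perm.zpow_apply_eq_self_of_apply_eq_self h i
  rw [e, show Nat.card GolayPt = 24 by rw [Nat.card_eq_fintype_card]; decide] at h
  exact h.symm

/-- A set fixed by an element lies in few points unless the order divides that of a fixer. -/
theorem orderOf_dvd_of_fix {g : pG} (hg : g ∈ M24) (h5 : 5 ≤ (fixF g).card) : orderOf g ∣ 48 := by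
  obtain ⟨T, hT, hc⟩ := Finset.exists_subset_card_eq h5
  let F := fixers M24 T.toList
  have hF : Nat.card F = 48 := by
    rw [card_fixers T.nodup_toList (by simp [hc]), Finset.length_toList, hc]; rfl
  have hgF : g ∈ F := ⟨hg, fun x hx => mem_fixF.1 (hT (Finset.mem_toList.1 hx))⟩
  have := orderOf_dvd_natCard (⟨g, hgF⟩ : F)
  rwa [hF, Subgroup.orderOf_mk] at this

/-- An element of order eleven fixing two points fixes exactly those. -/
theorem eleven_fix {x : pG} (hx : x ∈ M24) (h11 : orderOf x = 11) {a b : GolayPt} (hab : a ≠ b)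
    (ha : x a = a) (hb : x b = b) : fixF x = {a, b} := by
  haveI : Fact (Nat.Prime 11) := ⟨by norm_num⟩
  have hsub : ({a, b} : Finset GolayPt) ⊆ fixF x := by
    simp [Finset.insert_subset_iff, mem_fixF, ha, hb]
  have hlt : (fixF x).card < 5 := by
    by_contra h
    push Not at h
    have := orderOf_dvd_of_fix hx h
    rw [h11] at this
    norm_num at this
  have hm := fixF_mod h11
  refine (Finset.eq_of_subset_of_card_le hsub ?_).symm
  rw [Finset.card_pair hab]
  omega

/-- An element of order eleven fixing two points commutes with no element of other prime order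
fixing them. -/
theorem no_commute {x y : pG} (hx : x ∈ M24) (hy : y ∈ M24) (h11 : orderOf x = 11) {l : ℕ}
    (hl : l.Prime) (hl11 : l ≠ 11) (hly : orderOf y = l) (hcomm : Commute x y) {a b : GolayPt}
    (hab : a ≠ b) (hxa : x a = a) (hxb : x b = b) (hya : y a = a) (hyb : y b = b) : False := by
  haveI : Fact (Nat.Prime 11) := ⟨by norm_num⟩
  haveI : Fact l.Prime := ⟨hl⟩
  -- the fixed points of `y` form a union of orbits of `x`
  have hinv : ∀ p, p ∈ fixF y → x p ∈ fixF y := fun p hp => by
    rw [mem_fixF] at hp ⊢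
    rw [← Equiv.Perm.mul_apply, ← hcomm.eq, Equiv.Perm.mul_apply, hp]
  have hm : (fixF y).card % 11 = 2 := by
    let S := fixF y
    letI : MulAction (Subgroup.zpowers x) ↥S :=
      { smul := fun k p => ⟨(k : pG) p.1, by
          obtain ⟨i, hi⟩ := Subgroup.mem_zpowers_iff.1 k.2
          rw [← hi]
          have hk : Commute (x ^ i) y := hcomm.zpow_left i
          rw [mem_fixF, ← Equiv.Perm.mul_apply, ← hk.eq, Equiv.Perm.mul_apply, mem_fixF.1 p.2]⟩
        one_smul := fun p => rfl
        mul_smul := fun k k' p => rfl }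
    have hP : IsPGroup 11 (Subgroup.zpowers x) :=
      IsPGroup.of_card (n := 1) (by rw [Nat.card_zpowers, h11, pow_one])
    have h := hP.card_modEq_card_fixedPoints ↥S
    have e : Nat.card (MulAction.fixedPoints (Subgroup.zpowers x) ↥S) = 2 := by
      have hxf := eleven_fix hx h11 hab hxa hxb
      rw [show (2 : ℕ) = Nat.card ({a, b} : Finset GolayPt) by
        rw [Nat.card_eq_finsetCard, Finset.card_pair hab]]
      refine Nat.card_congr ⟨fun p => ⟨p.1.1, ?_⟩, fun q => ⟨⟨q.1, ?_⟩, ?_⟩, fun p => rfl,
        fun q => rfl⟩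
      · rw [← hxf, mem_fixF]
        exact congrArg Subtype.val (p.2 ⟨x, Subgroup.mem_zpowers x⟩)
      · rcases Finset.mem_insert.1 q.2 with h | h
        · rw [h, mem_fixF, hya]
        · rw [Finset.mem_singleton.1 h, mem_fixF, hyb]
      · intro k
        obtain ⟨i, hi⟩ := Subgroup.mem_zpowers_iff.1 k.2
        apply Subtype.ext
        show (k : pG) q.1 = q.1
        rw [← hi]
        refine Equiv.Perm.zpow_apply_eq_self_of_apply_eq_self ?_ i
        rcases Finset.mem_insert.1 q.2 with h | h
        · rw [h, hxa]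
        · rw [Finset.mem_singleton.1 h, hxb]
    rw [Nat.card_eq_finsetCard, e] at h
    exact h
  have hle : (fixF y).card ≤ 24 := le_trans (Finset.card_le_univ _) (by decide)
  have hcases : (fixF y).card = 2 ∨ (fixF y).card = 13 ∨ (fixF y).card = 24 := by omega
  have hmod := fixF_mod hly
  rcases hcases with h | h | h
  · rw [h] at hmod
    have h22 : l ∣ 22 := by
      have : (22 : ℕ) % l = 0 := by
        have e : (2 + 22) % l = (2 + 0) % l := by rw [add_zero]; exact hmod.symm
        have h' : 22 % l = 0 % l := Nat.ModEq.add_left_cancel' 2 e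
        rwa [Nat.zero_mod] at h'
      exact Nat.dvd_of_mod_eq_zero this
    have h2 : l = 2 := by
      rcases (Nat.Prime.dvd_mul hl).1 (show l ∣ 2 * 11 by simpa using h22) with h | h
      · exact (Nat.prime_dvd_prime_iff_eq hl Nat.prime_two).1 h
      · exact absurd ((Nat.prime_dvd_prime_iff_eq hl (by norm_num)).1 h) hl11
    rw [h2] at hly
    rcases Cfsg.Agent.M24Module.FixCount.two_fix hy hly with h8 | h0
    · have := h8.2
      have : (fixF y).card = 8 := this
      omega
    · have ha' : a ∈ fixF y := mem_fixF.2 hya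
      rw [show fixF y = ∅ from h0] at ha'
      simp at ha'
  · have hd := orderOf_dvd_of_fix hy (show 5 ≤ (fixF y).card by omega)
    rw [hly, show (48 : ℕ) = 2 ^ 4 * 3 from rfl] at hd
    rw [h] at hmod
    rcases (Nat.Prime.dvd_mul hl).1 hd with h' | h'
    · rw [(Nat.prime_dvd_prime_iff_eq hl Nat.prime_two).1 (hl.dvd_of_dvd_pow h')] at hmod
      norm_num at hmod
    · rw [(Nat.prime_dvd_prime_iff_eq hl Nat.prime_three).1 h'] at hmod
      norm_num at hmod
  · have : y = 1 := by
      have hu : fixF y = Finset.univ := Finset.eq_univ_of_card _ (by rw [h]; decide)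
      exact Equiv.ext fun p => mem_fixF.1 (hu ▸ Finset.mem_univ p)
    rw [this, orderOf_one] at hly
    exact hl.ne_one hly.symm

end Cfsg.Agent.GroupStructure3.MathieuSub
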