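import Mathlib
import Cfsg.Prelude.Def_Sporadic

/-!
Groups of order 7920 or 2112 in which the elements of order eleven are self-centralising.
-/

set_option autoImplicit false

namespace Cfsg.Agent.GroupStructure3.MathieuSub

open Subgroup

variable {G : Type*} [Group G] [Finite G]

/-- Only powers of eleven commute with elements of order eleven. -/
def SelfCentEleven (G : Type*) [Group G] : Prop :=
  ∀ x y : G, orderOf x = 11 → (orderOf y).Prime → orderOf y ≠ 11 → ¬ Commute x y

theorem centralizer_eq (hG : SelfCentEleven G) (h121 : ¬ 121 ∣ Nat.card G) {x : G}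
    (hx : orderOf x = 11) : centralizer ({x} : Set G) = zpowers x := by
  haveI : Fact (Nat.Prime 11) := ⟨by norm_num⟩
  have hle : zpowers x ≤ centralizer ({x} : Set G) := by
    rw [zpowers_le, mem_centralizer_singleton_iff]
  refine (eq_of_le_of_card_ge hle ?_).symm
  have hp : IsPGroup 11 (centralizer ({x} : Set G)) := by
    refine IsPGroup.iff_card.2 ?_
    by_contra hno
    obtain ⟨l, hl, hld, hne⟩ : ∃ l, l.Prime ∧ l ∣ Nat.card (centralizer ({x} : Set G)) ∧ l ≠ 11 := by
      by_contra hc
      push Not at hc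
      exact hno ⟨_, Nat.eq_prime_pow_of_unique_prime_dvd Nat.card_pos.ne' fun {d} hd hdd => hc d hd hdd⟩
    haveI := Fact.mk hl
    obtain ⟨y, hy⟩ := exists_prime_orderOf_dvd_card' l hld
    rw [← orderOf_coe] at hy
    exact hG x y hx (hy ▸ hl) (hy ▸ hne) (mem_centralizer_singleton_iff.1 y.2).symm
  obtain ⟨k, hk⟩ := IsPGroup.iff_card.1 hp
  rw [hk, Nat.card_zpowers, hx]
  rcases Nat.lt_or_ge k 2 with h | h
  · calc 11 ^ k ≤ 11 ^ 1 := Nat.pow_le_pow_right (by norm_num) (by omega)
      _ = 11 := pow_one _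
  · refine absurd ?_ h121
    exact (dvd_trans (show 11 ^ 2 ∣ 11 ^ k from pow_dvd_pow _ h) (hk ▸ card_subgroup_dvd_card _))

/-- The normaliser of a Sylow subgroup: order dividing 110. -/
theorem card_normalizer_dvd (hG : SelfCentEleven G) (h121 : ¬ 121 ∣ Nat.card G) {x : G}
    (hx : orderOf x = 11) : Nat.card (normalizer (zpowers x : Set G)) ∣ 110 := by
  haveI : Fact (Nat.Prime 11) := ⟨by norm_num⟩
  let P := zpowers x
  let f := P.normalizerMonoidHom
  have hker : Nat.card f.ker = 11 := by
    rw [P.normalizerMonoidHom_ker]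
    have e : centralizer (P : Set G) = zpowers x := by
      refine le_antisymm ?_ ?_
      · refine le_trans (centralizer_le (Set.singleton_subset_iff.2 (mem_zpowers x))) ?_
        rw [centralizer_eq hG h121 hx]
      · rw [zpowers_le, mem_centralizer_iff]
        intro z hz
        obtain ⟨i, rfl⟩ := mem_zpowers_iff.1 hz
        exact ((Commute.refl x).zpow_left i).eq
    rw [Nat.card_congr (subgroupOfEquivOfLe
      (centralizer_le_normalizer (s := (P : Set G)))).toEquiv, e, Nat.card_zpowers, hx]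
  have h := f.ker.card_mul_index
  rw [hker, index_ker] at h
  rw [← h, show (110 : ℕ) = 11 * 10 from rfl]
  refine Nat.mul_dvd_mul_left 11 ?_
  have hP : Nat.card (MulAut P) = 10 := by
    rw [IsCyclic.card_mulAut, Nat.card_zpowers, hx]; rfl
  exact hP ▸ card_subgroup_dvd_card _

theorem card_sylow_normalizer (hG : SelfCentEleven G) (h121 : ¬ 121 ∣ Nat.card G)
    (h11 : 11 ∣ Nat.card G) : ∃ n N : ℕ, n % 11 = 1 ∧ n * N = Nat.card G ∧ 11 ∣ N ∧ N ∣ 110 ∧
      ∀ Q : Sylow 11 G, n = Nat.card (Sylow 11 G) ∧ N = Nat.card (normalizer (Q : Set G)) := by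
  haveI : Fact (Nat.Prime 11) := ⟨by norm_num⟩
  obtain ⟨P⟩ : Nonempty (Sylow 11 G) := inferInstance
  have hPd : 11 ∣ Nat.card (P : Subgroup G) := P.dvd_card_of_dvd_card h11
  obtain ⟨x, hx⟩ := exists_prime_orderOf_dvd_card' 11 hPd
  have hx' : orderOf (x : G) = 11 := by rw [orderOf_coe, hx]
  have hPx : (P : Subgroup G) = zpowers (x : G) := by
    refine (eq_of_le_of_card_ge (zpowers_le.2 x.2) ?_).symm
    obtain ⟨k, hk⟩ := IsPGroup.iff_card.1 P.2
    rw [hk, Nat.card_zpowers, hx']
    rcases Nat.lt_or_ge k 2 with h | h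
    · calc 11 ^ k ≤ 11 ^ 1 := Nat.pow_le_pow_right (by norm_num) (by omega)
        _ = 11 := pow_one _
    · exact absurd (dvd_trans (show 11 ^ 2 ∣ 11 ^ k from pow_dvd_pow _ h)
        (hk ▸ card_subgroup_dvd_card _)) h121
  refine ⟨Nat.card (Sylow 11 G), Nat.card (normalizer (P : Set G)), card_sylow_modEq_one 11 G, ?_,
    ?_, ?_, fun Q => ⟨rfl, ?_⟩⟩
  · rw [P.card_eq_index_normalizer]; exact index_mul_card _
  · exact dvd_trans hPd (card_dvd_of_le le_normalizer)
  · show Nat.card (normalizer ((P : Subgroup G) : Set G)) ∣ 110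
    rw [hPx]; exact card_normalizer_dvd hG h121 hx'
  · refine Nat.eq_of_mul_eq_mul_left (Nat.card_pos (α := Sylow 11 G)) ?_
    conv_lhs => rw [P.card_eq_index_normalizer, index_mul_card]
    conv_rhs => rw [Q.card_eq_index_normalizer, index_mul_card]

theorem not_order_2112 (hG : SelfCentEleven G) : Nat.card G ≠ 2112 := by
  intro hc
  obtain ⟨n, N, hn, hmul, h11, h110, -⟩ :=
    card_sylow_normalizer hG (by rw [hc]; norm_num) (by rw [hc]; norm_num)
  rw [hc] at hmul
  have key : ∀ N ∈ Nat.divisors 110, 11 ∣ N → N ∣ 2112 → (2112 / N) % 11 ≠ 1 := by decide +kernel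
  have hN0 : 0 < N := Nat.pos_of_dvd_of_pos h110 (by norm_num)
  refine key N (Nat.mem_divisors.2 ⟨h110, by norm_num⟩) h11 ⟨n, by rw [← hmul]; ring⟩ ?_
  rw [← hmul, Nat.mul_div_cancel _ hN0, hn]

/-- A non-trivial subgroup of order prime to eleven dividing 720 is normalised by no element of
order eleven. -/
theorem not_normalized (hG : SelfCentEleven G) {x : G} (hx : orderOf x = 11) (M : Subgroup G)
    (hM : Nat.card M ∣ 720) (hnorm : x ∈ normalizer (M : Set G)) : M = ⊥ := by
  haveI : Fact (Nat.Prime 11) := ⟨by norm_num⟩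
  by_contra hne
  have h1 : Nat.card M ≠ 1 := fun h => hne (M.card_eq_one.1 h)
  obtain ⟨l, hl, hld⟩ := Nat.exists_prime_and_dvd h1
  haveI := Fact.mk hl
  have hl11 : l ≠ 11 := fun h => by
    rw [h] at hld
    have := dvd_trans hld hM
    norm_num at this
  have hXle : zpowers x ≤ normalizer (M : Set G) := zpowers_le.2 hnorm
  let conjM : zpowers x → MulAut M := fun k => (M.normalizerMonoidHom ⟨k.1, hXle k.2⟩)
  have hconj : ∀ (k : zpowers x) (m : M), ((conjM k m : M) : G) = k.1 * m.1 * k.1⁻¹ :=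
    fun k m => rfl
  letI : MulAction (zpowers x) M :=
    { smul := fun k m => conjM k m
      one_smul := fun m => Subtype.ext (by show ((conjM 1 m : M) : G) = m; rw [hconj]; simp)
      mul_smul := fun a b m => Subtype.ext (by
        show ((conjM (a * b) m : M) : G) = ((conjM a (conjM b m) : M) : G)
        rw [hconj, hconj, hconj]; simp [mul_assoc]) }
  -- fixed points are trivial
  have htriv : ∀ m : M, x * m.1 * x⁻¹ = m.1 → m = 1 := by
    intro m hm
    by_contra hm1
    have hom : orderOf (m : G) ≠ 1 := fun h => hm1 (Subtype.ext (orderOf_eq_one_iff.1 h))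
    obtain ⟨l', hl', hld'⟩ := Nat.exists_prime_and_dvd hom
    haveI := Fact.mk hl'
    have hy : orderOf ((m : G) ^ (orderOf (m : G) / l')) = l' :=
      orderOf_pow_orderOf_div (orderOf_pos _).ne' hld'
    have hl11' : l' ≠ 11 := fun h => by
      rw [h, orderOf_coe] at hld'
      have := dvd_trans hld' (dvd_trans (orderOf_dvd_natCard m) hM)
      norm_num at this
    refine hG x _ hx (by rw [hy]; exact hl') (by rw [hy]; exact hl11') (Commute.pow_right ?_ _)
    rwa [Commute, SemiconjBy, ← mul_inv_eq_iff_eq_mul]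
  -- an invariant Sylow subgroup
  obtain ⟨k, hk⟩ : ∃ k, Nat.card (Sylow l M) * k = Nat.card M := by
    obtain ⟨Q⟩ : Nonempty (Sylow l M) := inferInstance
    exact ⟨Nat.card (normalizer ((Q : Subgroup M) : Set M)), by
      rw [Q.card_eq_index_normalizer]; exact index_mul_card _⟩
  let g : M ≃* M := conjM ⟨x, mem_zpowers x⟩
  have hg : ∀ (i : ℕ) (m : M), (((g ^ i) m : M) : G) = x ^ i * m.1 * (x ^ i)⁻¹ := by
    intro i
    induction i with
    | zero => intro m; simp
    | succ i ih =>
      intro m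
      rw [pow_succ, MulAut.mul_apply, ih, show ((g m : M) : G) = x * m.1 * x⁻¹ from hconj _ m]
      simp [pow_succ, mul_assoc]
  have hg11 : g ^ 11 = 1 := MulEquiv.ext fun m => Subtype.ext (by
    rw [hg, ← hx, pow_orderOf_eq_one]; simp)
  obtain ⟨Q, hQ⟩ : ∃ Q : Sylow l M, g • Q = Q := by
    by_contra hno
    push Not at hno
    have hP : IsPGroup 11 (zpowers g) := by
      intro a
      obtain ⟨i, hi⟩ := mem_zpowers_iff.1 a.2
      refine ⟨1, Subtype.ext ?_⟩
      rw [pow_one, SubmonoidClass.coe_pow, ← hi, ← zpow_natCast, ← zpow_mul, mul_comm, zpow_mul,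
        zpow_natCast, hg11, one_zpow]
      rfl
    have h := hP.card_modEq_card_fixedPoints (Sylow l M)
    haveI : IsEmpty (MulAction.fixedPoints (zpowers g) (Sylow l M)) :=
      ⟨fun Q => hno Q.1 (Q.2 ⟨g, mem_zpowers g⟩)⟩
    rw [Nat.card_of_isEmpty (α := MulAction.fixedPoints (zpowers g) (Sylow l M))] at h
    have h0 : 11 ∣ Nat.card (Sylow l M) := Nat.dvd_of_mod_eq_zero h
    have := dvd_trans (dvd_trans h0 ⟨k, hk.symm⟩) hM
    norm_num at this
  have hQstab : ∀ m : M, m ∈ (Q : Subgroup M) → g m ∈ (Q : Subgroup M) := by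
    intro m hm
    have : g m ∈ ((g • Q : Sylow l M) : Subgroup M) := Subgroup.smul_mem_pointwise_smul m g _ hm
    rwa [hQ] at this
  let gS : ↥(Q : Subgroup M) → ↥(Q : Subgroup M) := fun m => ⟨g m.1, hQstab m.1 m.2⟩
  have hQpow : ∀ (i : ℕ) (m : M), m ∈ (Q : Subgroup M) → (g ^ i) m ∈ (Q : Subgroup M) := by
    intro i
    induction i with
    | zero => intro m hm; simpa using hm
    | succ i ih => intro m hm; rw [pow_succ, MulAut.mul_apply]; exact ih _ (hQstab m hm)
  have hQz : ∀ k : zpowers g, ∀ m : M, m ∈ (Q : Subgroup M) → (k : MulAut M) m ∈ (Q : Subgroup M) := by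
    intro k m hm
    obtain ⟨i, hi⟩ := mem_zpowers_iff.1 k.2
    obtain ⟨j, hj⟩ : ∃ j : ℕ, g ^ i = g ^ j := ⟨(i % 11).toNat, by
      rw [← zpow_natCast, Int.toNat_of_nonneg (Int.emod_nonneg _ (by norm_num))]
      conv_lhs => rw [← Int.mul_ediv_add_emod i 11, zpow_add, zpow_mul,
        show g ^ (11 : ℤ) = 1 from hg11, one_zpow, one_mul]⟩
    rw [← hi, hj]
    exact hQpow j m hm
  letI : MulAction (zpowers g) ↥(Q : Subgroup M) :=
    { smul := fun k m => ⟨(k : MulAut M) m.1, hQz k m.1 m.2⟩
      one_smul := fun m => rfl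
      mul_smul := fun a b m => rfl }
  have hP : IsPGroup 11 (zpowers g) := by
    intro a
    obtain ⟨i, hi⟩ := mem_zpowers_iff.1 a.2
    refine ⟨1, Subtype.ext ?_⟩
    rw [pow_one, SubmonoidClass.coe_pow, ← hi, ← zpow_natCast, ← zpow_mul, mul_comm, zpow_mul,
      zpow_natCast, hg11, one_zpow]
    rfl
  have h := hP.card_modEq_card_fixedPoints ↥(Q : Subgroup M)
  haveI hsub : Subsingleton (MulAction.fixedPoints (zpowers g) ↥(Q : Subgroup M)) := by
    refine ⟨fun a b => Subtype.ext (Subtype.ext ?_)⟩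
    have key : ∀ c : MulAction.fixedPoints (zpowers g) ↥(Q : Subgroup M), c.1.1 = 1 := fun c =>
      htriv _ (congrArg (fun z : M => (z : G)) (congrArg Subtype.val (c.2 ⟨g, mem_zpowers g⟩)))
    rw [key a, key b]
  have h1' : Nat.card (MulAction.fixedPoints (zpowers g) ↥(Q : Subgroup M)) = 1 :=
    Nat.card_eq_one_iff_unique.2 ⟨hsub, ⟨⟨1, fun k => Subtype.ext (map_one (k : MulAut M))⟩⟩⟩
  rw [h1'] at h
  obtain ⟨a, ha⟩ := IsPGroup.iff_card.1 Q.2
  have ha1 : a ≠ 0 := by
    intro h0
    have := Q.dvd_card_of_dvd_card hld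
    rw [ha, h0, pow_zero] at this
    exact hl.ne_one (Nat.dvd_one.1 this)
  have hdvd : l ^ a ∣ 720 := ha ▸ dvd_trans (card_subgroup_dvd_card _) hM
  have key : ∀ d ∈ Nat.divisors 720, d % 11 = 1 → d = 1 ∨ d = 12 ∨ d = 45 ∨ d = 144 := by decide +kernel
  rw [ha] at h
  rcases key _ (Nat.mem_divisors.2 ⟨hdvd, by norm_num⟩) h with h' | h' | h' | h'
  · exact ha1 ((pow_eq_one_iff.1 h').resolve_left hl.ne_one)
  all_goals
    have h2 : (2 : ℕ) ∣ l ^ a ∨ (5 : ℕ) ∣ l ^ a := by rw [h']; norm_num
    have h3 : (3 : ℕ) ∣ l ^ a := by rw [h']; norm_num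
    have e3 := (Nat.prime_dvd_prime_iff_eq Nat.prime_three hl).1 (Nat.prime_three.dvd_of_dvd_pow h3)
    rcases h2 with h2 | h2
    · have := (Nat.prime_dvd_prime_iff_eq Nat.prime_two hl).1 (Nat.prime_two.dvd_of_dvd_pow h2)
      omega
    · have := (Nat.prime_dvd_prime_iff_eq (by norm_num) hl).1
        ((by norm_num : Nat.Prime 5).dvd_of_dvd_pow h2)
      omega

theorem isM11_of_selfCent (hG : SelfCentEleven G) (hc : Nat.card G = 7920) : Cfsg.IsM11 G := by
  haveI : Fact (Nat.Prime 11) := ⟨by norm_num⟩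
  haveI : Nontrivial G := Finite.one_lt_card_iff_nontrivial.1 (by rw [hc]; norm_num)
  have h121 : ¬ 121 ∣ Nat.card G := by rw [hc]; norm_num
  obtain ⟨n, N, hn, hmul, h11, h110, hall⟩ := card_sylow_normalizer hG h121 (by rw [hc]; norm_num)
  rw [hc] at hmul
  have hN0 : 0 < N := Nat.pos_of_dvd_of_pos h110 (by norm_num)
  have key : ∀ N ∈ Nat.divisors 110, 11 ∣ N → N ∣ 7920 → (7920 / N) % 11 = 1 → N = 55 := by
    decide +kernel
  have hN : N = 55 := key N (Nat.mem_divisors.2 ⟨h110, by norm_num⟩) h11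
    ⟨n, by rw [← hmul]; ring⟩ (by rw [← hmul, Nat.mul_div_cancel _ hN0, hn])
  subst hN
  have hn144 : n = 144 := by omega
  subst hn144
  refine ⟨⟨fun M hM => ?_⟩, hc⟩
  by_contra hcon
  push Not at hcon
  obtain ⟨hbot, htop⟩ := hcon
  obtain ⟨x, hx⟩ := exists_prime_orderOf_dvd_card' (G := G) 11 (by rw [hc]; norm_num)
  by_cases h11M : 11 ∣ Nat.card M
  · -- all Sylow subgroups lie in `M`
    obtain ⟨R⟩ : Nonempty (Sylow 11 M) := inferInstance
    have hMd : Nat.card M ∣ 7920 := hc ▸ card_subgroup_dvd_card M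
    have hMsc : SelfCentEleven M := fun a b ha hb hb' hab => hG a b (by rwa [orderOf_coe])
      (by rwa [orderOf_coe]) (by rwa [orderOf_coe]) (hab.map M.subtype)
    have h121M : ¬ 121 ∣ Nat.card M := fun h => h121 (dvd_trans h (card_subgroup_dvd_card M))
    obtain ⟨n', N', hn', hmul', h11', h110', hall'⟩ := card_sylow_normalizer hMsc h121M h11M
    obtain ⟨hn'R, hN'R⟩ := hall' R
    -- the Sylow subgroups of `G` all lie in `M`
    have hRG : Nat.card ((R : Subgroup M).map M.subtype) = 11 := by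
      rw [card_map_of_injective M.subtype_injective]
      obtain ⟨k, hk⟩ := IsPGroup.iff_card.1 R.2
      have h1 := R.dvd_card_of_dvd_card h11M
      have hk0 : k ≠ 0 := fun h0 => by rw [hk, h0] at h1; norm_num at h1
      have hk2 : k < 2 := by
        by_contra h
        exact h121M (dvd_trans (show 11 ^ 2 ∣ 11 ^ k from pow_dvd_pow _ (by omega))
          (hk ▸ card_subgroup_dvd_card _))
      rw [hk, show k = 1 by omega, pow_one]
    have hle : ∀ S : Sylow 11 G, (S : Subgroup G) ≤ M := by
      intro S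
      have hSc : Nat.card (S : Subgroup G) = 11 := by
        rw [S.card_eq_multiplicity, hc, Nat.factorization_eq_of_coprime_left
          (a := 11) (b := 720) (by norm_num) (by simp)]
        simp [Nat.Prime.factorization_self (by norm_num : Nat.Prime 11)]
      obtain ⟨T, hT⟩ := (R.2.map M.subtype).exists_le_sylow
      have hTc : Nat.card (T : Subgroup G) = 11 := by
        have e1 := T.card_eq_multiplicity
        rw [← S.card_eq_multiplicity, hSc] at e1
        exact e1
      have hTM : (T : Subgroup G) ≤ M := by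
        rw [← eq_of_le_of_card_ge hT (by rw [hTc, hRG])]
        exact map_subtype_le _
      obtain ⟨a, ha⟩ := MulAction.exists_smul_eq G T S
      rw [← ha, Sylow.coe_subgroup_smul]
      intro z hz
      rw [mem_pointwise_smul_iff_inv_smul_mem] at hz
      have hz' : (MulAut.conj a)⁻¹ • z ∈ (T : Subgroup G) := hz
      have := hM.conj_mem _ (hTM hz') a
      simpa [MulAut.smul_def, mul_assoc] using this
    have hbij : Function.Bijective (fun S : Sylow 11 G => (S.subtype (hle S) : Sylow 11 M)) := by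
      constructor
      · intro S S' h
        exact Sylow.subtype_injective h
      · intro R'
        obtain ⟨T, hT⟩ := (R'.2.map M.subtype).exists_le_sylow
        refine ⟨T, Sylow.ext ?_⟩
        rw [Sylow.coe_subtype]
        refine (R'.is_maximal' (IsPGroup.comap_of_injective T.2 M.subtype M.subtype_injective) ?_)
        intro z hz
        exact hT ⟨z, hz, rfl⟩
    have h144 : n' = 144 := by
      rw [hn'R, ← Nat.card_congr (Equiv.ofBijective _ hbij)]
      obtain ⟨S⟩ : Nonempty (Sylow 11 G) := inferInstance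
      exact (hall S).1.symm
    subst h144
    have hNd : N' ∣ 55 := by
      have : 144 * N' ∣ 144 * 55 := by rw [hmul', hmul]; exact hMd
      exact Nat.dvd_of_mul_dvd_mul_left (by norm_num) this
    have hN' : N' = 11 := by
      rcases (show N' = 11 ∨ N' = 55 by
        have : ∀ d ∈ Nat.divisors 55, 11 ∣ d → d = 11 ∨ d = 55 := by decide
        exact this N' (Nat.mem_divisors.2 ⟨hNd, by norm_num⟩) h11') with h | h
      · exact h
      · exact absurd (card_eq_iff_eq_top M |>.1 (by rw [hc, ← hmul', h])) htop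
    subst hN'
    -- Burnside: a normal 11-complement in `M`
    have hR11 : Nat.card (R : Subgroup M) = 11 := by
      rw [← card_map_of_injective M.subtype_injective, hRG]
    have hNR : normalizer ((R : Subgroup M) : Set M) = (R : Subgroup M) :=
      (eq_of_le_of_card_ge le_normalizer (by rw [hR11]; exact le_of_eq hN'R.symm)).symm
    have hcomm : normalizer ((R : Subgroup M) : Set M) ≤ centralizer ((R : Subgroup M) : Set M) := by
      haveI : IsCyclic (R : Subgroup M) := isCyclic_of_prime_card hR11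
      rw [hNR]
      intro a ha
      rw [mem_centralizer_iff]
      intro b hb
      exact congrArg Subtype.val (IsMulCommutative.is_comm.comm (⟨b, hb⟩ : (R : Subgroup M)) ⟨a, ha⟩)
    have hcompl := MonoidHom.ker_transferSylow_isComplement' R hcomm
    have hK : Nat.card (MonoidHom.transferSylow R hcomm).ker = 144 := by
      have := hcompl.card_mul
      rw [hR11, ← hmul'] at this
      omega
    set K := (MonoidHom.transferSylow R hcomm).ker with hKdef
    obtain ⟨y, hy⟩ := exists_prime_orderOf_dvd_card' (G := M) 11 h11M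
    have hym : y ∈ normalizer (K : Set M) := by
      rw [normalizer_eq_top]; trivial
    have := not_normalized hMsc hy K (by rw [hK]; norm_num) hym
    rw [this, card_bot] at hK
    norm_num at hK
  · have hM720 : Nat.card M ∣ 720 := by
      have hMd : Nat.card M ∣ 11 * 720 := by rw [show 11 * 720 = 7920 from rfl, ← hc]; exact card_subgroup_dvd_card M
      exact ((Nat.coprime_comm.1 ((Nat.Prime.coprime_iff_not_dvd (by norm_num)).2 h11M))).dvd_of_dvd_mul_left hMd
    exact hbot (not_normalized hG hx M hM720 (by rw [normalizer_eq_top]; trivial))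

end Cfsg.Agent.GroupStructure3.MathieuSub
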