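import Mathlib
import Cfsg.Agent.GroupStructure3.MathieuSub.FixLemmas
import Cfsg.Agent.GroupStructure3.MathieuSub.SimpleCrit
import Cfsg.Agent.GroupStructure3.MathieuSub.Eleven

/-!
The fixer of two points in M24 has no subgroups of order 7920 or 2112.
-/

set_option autoImplicit false

namespace Cfsg.Agent.GroupStructure3.MathieuSub

open Cfsg Cfsg.Agent.Golay.Basic Cfsg.Agent.Golay.Perm Cfsg.Agent.Golay.M24
  Cfsg.Agent.Golay.Trans Cfsg.Agent.Golay.AutBig MulAction

local notation "pG" => Equiv.Perm GolayPt

variable {a b : GolayPt} (hab : a ≠ b) {L : Subgroup pG} (hL : L ≤ fixers M24 [a, b])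
include hab hL

theorem selfCent : SelfCentEleven L := by
  intro x y hx hy hy11 hcomm
  have hmx := hL x.2
  have hmy := hL y.2
  refine no_commute hmx.1 hmy.1 (by rw [Subgroup.orderOf_coe, hx]) hy hy11
    (Subgroup.orderOf_coe y) (hcomm.map L.subtype) hab (hmx.2 _ (by simp)) (hmx.2 _ (by simp))
    (hmy.2 _ (by simp)) (hmy.2 _ (by simp))

theorem not_card_2112 : Nat.card L ≠ 2112 := not_order_2112 (selfCent hab hL)

theorem not_card_7920 : Nat.card L ≠ 7920 := by
  classical
  intro hc
  obtain ⟨K, hK, hKmax⟩ := exists_maximal (isM11_of_selfCent (selfCent hab hL) hc)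
  let U : Finset GolayPt := {a, b}ᶜ
  have hU : ∀ z, z ∈ U ↔ z ≠ a ∧ z ≠ b := fun z => by simp [U]
  have hU22 : U.card = 22 := by
    rw [Finset.card_compl, Finset.card_pair hab]
    decide
  have hinv : ∀ (g : L) (z : GolayPt), z ∈ U → g • z ∈ U := by
    intro g z hz
    rw [hU] at hz ⊢
    have hm := hL g.2
    constructor
    · intro h
      exact hz.1 ((g : pG).injective (h.trans (hm.2 a (by simp)).symm))
    · intro h
      exact hz.2 ((g : pG).injective (h.trans (hm.2 b (by simp)).symm))
  -- a stabiliser: order dividing that of the fixer of three points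
  have hstab : ∀ z ∈ U, Nat.card (stabilizer L z) ∣ 20160 := by
    intro z hz
    rw [hU] at hz
    let e : stabilizer L z →* fixers M24 [a, b, z] :=
      { toFun := fun g => ⟨(g.1 : pG), (hL g.1.2).1, by
          intro w hw
          simp only [List.mem_cons, List.not_mem_nil, or_false] at hw
          rcases hw with rfl | rfl | rfl
          · exact (hL g.1.2).2 _ (by simp)
          · exact (hL g.1.2).2 _ (by simp)
          · exact g.2⟩
        map_one' := rfl
        map_mul' := fun _ _ => rfl }
    have he : Function.Injective e := fun g g' h =>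
      Subtype.ext (Subtype.ext (congrArg (fun w => w.1) h :))
    have := Subgroup.card_dvd_of_injective e he
    rwa [card_fixers (by simp [hab, Ne.symm hz.1, Ne.symm hz.2]) (by simp),
      show [244823040, 10200960, 443520, 20160, 960, 48, 16, 1].getD [a, b, z].length 0 = 20160
        from rfl] at this
  have horb : ∀ z ∈ U, (orbit L z).ncard = 11 ∨ (orbit L z).ncard = 22 := by
    intro z hz
    have h1 := (stabilizer L z).card_mul_index
    rw [index_stabilizer, hc] at h1
    have h11 : 11 ∣ Nat.card (stabilizer L z) * (orbit L z).ncard := by rw [h1]; norm_num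
    have hle : (orbit L z).ncard ≤ 22 := by
      rw [← hU22, ← Set.ncard_coe_finset]
      exact Set.ncard_le_ncard (by rintro _ ⟨g, rfl⟩; exact hinv g z hz) (Set.toFinite _)
    rcases (Nat.Prime.dvd_mul (by norm_num)).1 h11 with h | h
    · exact absurd (dvd_trans h (hstab z hz)) (by norm_num)
    · obtain ⟨k, hk⟩ := h
      have hpos : 0 < (orbit L z).ncard := (Set.ncard_pos (Set.toFinite _)).2 ⟨z, mem_orbit_self z⟩
      omega
  -- two points with a large common stabiliser
  have hcommon : ∀ x y : GolayPt, x ∈ U → y ∈ U → x ≠ y → ∀ A : Subgroup L,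
      360 ∣ Nat.card A → (∀ g ∈ A, g • x = x) → ¬ ∀ g ∈ A, g • y = y := by
    intro x y hx hy hxy A hA hAx hAy
    rw [hU] at hx hy
    let e : A →* fixers M24 [a, b, x, y] :=
      { toFun := fun g => ⟨(g.1 : pG), (hL g.1.2).1, by
          intro w hw
          simp only [List.mem_cons, List.not_mem_nil, or_false] at hw
          rcases hw with rfl | rfl | rfl | rfl
          · exact (hL g.1.2).2 _ (by simp)
          · exact (hL g.1.2).2 _ (by simp)
          · exact hAx g.1 g.2
          · exact hAy g.1 g.2⟩
        map_one' := rfl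
        map_mul' := fun _ _ => rfl }
    have he : Function.Injective e := fun g g' h =>
      Subtype.ext (Subtype.ext (congrArg (fun w => w.1) h :))
    have := dvd_trans hA (Subgroup.card_dvd_of_injective e he)
    rw [card_fixers (by simp [hab, Ne.symm hx.1, Ne.symm hx.2, Ne.symm hy.1, Ne.symm hy.2, hxy])
      (by simp), show [244823040, 10200960, 443520, 20160, 960, 48, 16, 1].getD
        [a, b, x, y].length 0 = 960 from rfl] at this
    norm_num at this
  obtain ⟨x, hx⟩ : U.Nonempty := Finset.card_pos.1 (by omega)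
  have hcardA : ∀ z ∈ U, Nat.card (stabilizer L z) * (orbit L z).ncard = 7920 := fun z hz => by
    rw [← hc, ← index_stabilizer]; exact (stabilizer L z).card_mul_index
  have hcardK : ∀ h : L, Nat.card (K.map (MulAut.conj h).toMonoidHom) = 720 := fun h => by
    rw [Subgroup.card_map_of_injective (MulAut.conj h).injective, hK]
  have hA := hcardA x hx
  rcases horb x hx with h11 | h22
  · rw [h11] at hA
    have hA720 : Nat.card (stabilizer L x) = 720 := by omega
    obtain ⟨h, hh⟩ := hKmax (stabilizer L x) (by rw [hA720]; norm_num) (by rw [hA720]; norm_num)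
    have hxK := Subgroup.eq_of_le_of_card_ge hh (by rw [hcardK, hA720])
    obtain ⟨y, hy, hyx⟩ : ∃ y ∈ U, y ∉ orbit L x := by
      by_contra hno
      push Not at hno
      have : U.card ≤ (orbit L x).ncard := by
        rw [← Set.ncard_coe_finset]
        exact Set.ncard_le_ncard hno (Set.toFinite _)
      omega
    have hy11 : (orbit L y).ncard = 11 := by
      rcases horb y hy with h | h
      · exact h
      · exfalso
        have hsub : orbit L y ⊆ (U : Set GolayPt) := by rintro _ ⟨g, rfl⟩; exact hinv g y hy
        have heq : orbit L y = (U : Set GolayPt) := Set.eq_of_subset_of_ncard_le hsub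
          (by rw [Set.ncard_coe_finset, hU22, h]) (Set.toFinite _)
        have hxy : x ∈ orbit L y := heq ▸ hx
        exact hyx (orbit_eq_iff.2 hxy ▸ mem_orbit_self y)
    have hB := hcardA y hy
    rw [hy11] at hB
    have hB720 : Nat.card (stabilizer L y) = 720 := by omega
    obtain ⟨h', hh'⟩ := hKmax (stabilizer L y) (by rw [hB720]; norm_num) (by rw [hB720]; norm_num)
    have hyK := Subgroup.eq_of_le_of_card_ge hh' (by rw [hcardK, hB720])
    refine hcommon x ((h * h'⁻¹) • y) hx (hinv _ y hy) ?_ (stabilizer L x) (by rw [hA720]; norm_num)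
      (fun g hg => hg) fun g hg => ?_
    · intro e
      exact hyx ⟨(h * h'⁻¹)⁻¹, by rw [e]; exact inv_smul_smul _ _⟩
    · rw [hxK] at hg
      obtain ⟨k, hk, rfl⟩ := hg
      have hm : h' * k * h'⁻¹ ∈ stabilizer L y := by
        rw [hyK]; exact ⟨k, hk, rfl⟩
      show (h * k * h⁻¹) • (h * h'⁻¹) • y = (h * h'⁻¹) • y
      rw [smul_smul, show h * k * h⁻¹ * (h * h'⁻¹) = h * h'⁻¹ * (h' * k * h'⁻¹) by group,
        ← smul_smul (h * h'⁻¹), hm]
  · rw [h22] at hA
    have hA360 : Nat.card (stabilizer L x) = 360 := by omega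
    obtain ⟨h, hh⟩ := hKmax (stabilizer L x) (by rw [hA360]; norm_num) (by rw [hA360]; norm_num)
    set K' := K.map (MulAut.conj h).toMonoidHom with hK'
    have hidx : ((stabilizer L x).subgroupOf K').index = 2 := by
      have := ((stabilizer L x).subgroupOf K').card_mul_index
      rw [Nat.card_congr (Subgroup.subgroupOfEquivOfLe hh).toEquiv, hA360, hK', hcardK] at this
      rw [hK']
      omega
    haveI := Subgroup.normal_of_index_eq_two hidx
    obtain ⟨k, hk, hkA⟩ : ∃ k ∈ K', k ∉ stabilizer L x := by
      by_contra hno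
      push Not at hno
      have := Subgroup.card_le_of_le (show K' ≤ stabilizer L x from hno)
      rw [hA360, hK', hcardK] at this
      omega
    refine hcommon x (k • x) hx (hinv _ x hx) (fun e => hkA e.symm) (stabilizer L x)
      (by rw [hA360]) (fun g hg => hg) fun g hg => ?_
    have hn := Subgroup.Normal.conj_mem (H := (stabilizer L x).subgroupOf K') inferInstance
      ⟨g, hh hg⟩ hg ⟨k, hk⟩⁻¹
    have hn' : k⁻¹ * g * k⁻¹⁻¹ ∈ stabilizer L x := hn
    rw [inv_inv, mem_stabilizer_iff, mul_smul, mul_smul, inv_smul_eq_iff] at hn'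
    exact hn'

omit hab hL

theorem not_index (p q : GolayPt) (hpq : p ≠ q)
    (H : Subgroup ↥(stabilizer M24 p ⊓ stabilizer M24 q)) : H.index ≠ 56 ∧ H.index ≠ 210 := by
  let f : H →* pG :=
    (M24.subtype.comp (stabilizer M24 p ⊓ stabilizer M24 q).subtype).comp H.subtype
  have hf : Function.Injective f := fun g g' e => Subtype.ext (Subtype.ext (Subtype.ext e))
  have hle : f.range ≤ fixers M24 [p, q] := by
    rintro _ ⟨g, rfl⟩
    refine ⟨g.1.1.2, fun w hw => ?_⟩
    simp only [List.mem_cons, List.not_mem_nil, or_false] at hw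
    rcases hw with rfl | rfl
    · exact g.1.2.1
    · exact g.1.2.2
  have hT' : Nat.card ↥(stabilizer M24 p ⊓ stabilizer M24 q) = 443520 := Cfsg.Agent.Golay.Trans.card_stabilizer_two hpq
  have hcard : Nat.card f.range = Nat.card H :=
    (Nat.card_congr (MonoidHom.ofInjective hf).toEquiv).symm
  have hmul := H.card_mul_index
  rw [hT'] at hmul
  constructor <;> intro hi <;> rw [hi] at hmul
  · exact not_card_7920 hpq hle (by omega)
  · exact not_card_2112 hpq hle (by omega)

end Cfsg.Agent.GroupStructure3.MathieuSub
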