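import Mathlib
import Cfsg.Agent.GroupStructure3.MathieuSub.FixLemmas
import Cfsg.Agent.Lib.Golay.OctadStab

/-!
Subgroups of index 253 in the fixer of a point in M24.
-/

set_option autoImplicit false

namespace Cfsg.Agent.GroupStructure3.MathieuSub

open Cfsg Cfsg.Agent.Golay.Basic Cfsg.Agent.Golay.Design Cfsg.Agent.Golay.Perm Cfsg.Agent.Golay.M24
  Cfsg.Agent.Golay.Trans Cfsg.Agent.Golay.AutBig
open scoped Pointwise

local notation "pG" => Equiv.Perm GolayPt

theorem fixF_eq (g : pG) : fixF g = Cfsg.Agent.M24Module.FixCount.fixSet g := rfl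

/-- An element of M24 fixing at least nine points is trivial. -/
theorem eq_one_of_fix_nine {g : pG} (hg : g ∈ M24) (h9 : 9 ≤ (fixF g).card) : g = 1 := by
  by_contra hne
  obtain ⟨l, hl, hld⟩ := Nat.exists_prime_and_dvd (fun h => hne (orderOf_eq_one_iff.1 h))
  haveI := Fact.mk hl
  set y := g ^ (orderOf g / l) with hy
  have hy' : orderOf y = l := orderOf_pow_orderOf_div (orderOf_pos g).ne' hld
  have hym : y ∈ M24 := M24.pow_mem hg _
  have hsub : fixF g ⊆ fixF y := fun p hp => by
    rw [mem_fixF] at hp ⊢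
    exact Equiv.Perm.pow_apply_eq_self_of_apply_eq_self hp _
  have hy9 : 9 ≤ (fixF y).card := h9.trans (Finset.card_le_card hsub)
  have h48 := orderOf_dvd_of_fix hym (show 5 ≤ (fixF y).card by omega)
  rw [hy', show (48 : ℕ) = 2 ^ 4 * 3 from rfl] at h48
  rcases (Nat.Prime.dvd_mul hl).1 h48 with h | h
  · have h2 := (Nat.prime_dvd_prime_iff_eq hl Nat.prime_two).1 (hl.dvd_of_dvd_pow h)
    rw [h2] at hy'
    rw [fixF_eq] at hy9
    rcases Cfsg.Agent.M24Module.FixCount.two_fix hym hy' with h8 | h0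
    · have := octad_card h8
      omega
    · rw [h0, Finset.card_empty] at hy9
      omega
  · have h3 := (Nat.prime_dvd_prime_iff_eq hl Nat.prime_three).1 h
    rw [h3] at hy'
    rw [fixF_eq] at hy9
    have := Cfsg.Agent.M24Module.FixCount.three_fix hym hy'
    omega

/-- The fixed set of an involution of M24 fixing a point is an octad. -/
theorem two_fix_octad {g : pG} (hg : g ∈ M24) (h2 : orderOf g = 2) (hne : (fixF g).Nonempty) :
    fixF g ∈ octads := by
  rcases Cfsg.Agent.M24Module.FixCount.two_fix hg h2 with h | h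
  · exact h
  · rw [fixF_eq, h] at hne
    exact absurd hne Finset.not_nonempty_empty

/-- Restriction to an invariant set. -/
def restr {L : Subgroup pG} (T : Finset GolayPt) (hT : ∀ g ∈ L, g • T = T) : L →* Equiv.Perm ↥T where
  toFun g := (g : pG).subtypePerm fun x => by
    have hh := mem_smul_iff (g : pG) T x
    rw [hT g g.2] at hh
    exact hh
  map_one' := by ext; rfl
  map_mul' g h := by ext; rfl

theorem restr_apply {L : Subgroup pG} (T : Finset GolayPt) (hT : ∀ g ∈ L, g • T = T) (g : L)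
    (x : ↥T) : ((restr T hT g x : ↥T) : GolayPt) = (g : pG) x := rfl

theorem restr_ker {L : Subgroup pG} (T : Finset GolayPt) (hT : ∀ g ∈ L, g • T = T) {g : L}
    (hg : g ∈ (restr T hT).ker) {x : GolayPt} (hx : x ∈ T) : (g : pG) x = x := by
  have := congrArg (fun e : Equiv.Perm ↥T => ((e ⟨x, hx⟩ : ↥T) : GolayPt)) (MonoidHom.mem_ker.1 hg)
  exact this

theorem card_perm_coe (T : Finset GolayPt) : Nat.card (Equiv.Perm ↥T) = T.card.factorial := by
  rw [Nat.card_perm, Nat.card_eq_finsetCard]

variable {a : GolayPt} {L : Subgroup pG} (hL : L ≤ fixers M24 [a]) (hc : Nat.card L = 40320)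
include hL hc

theorem octad_of_seven {T : Finset GolayPt} (hT : T.card = 7) (haT : a ∉ T)
    (hinv : ∀ g ∈ L, g • T = T) : insert a T ∈ octads := by
  classical
  haveI : Fact (Nat.Prime 2) := ⟨Nat.prime_two⟩
  have hd : Nat.card (restr T hinv).range ∣ Nat.factorial 7 := by
    rw [← hT, ← card_perm_coe]; exact Subgroup.card_subgroup_dvd_card _
  have hmul := (restr T hinv).ker.card_mul_index
  rw [Subgroup.index_ker, hc] at hmul
  obtain ⟨k, hk⟩ := hd
  rw [show Nat.factorial 7 = 5040 from rfl] at hk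
  have hk0 : 0 < Nat.card (restr T hinv).range := Nat.card_pos
  have heven : 2 ∣ Nat.card (restr T hinv).ker := by
    refine ⟨4 * k, Nat.eq_of_mul_eq_mul_right hk0 ?_⟩
    rw [hmul, show (40320 : ℕ) = 8 * 5040 from rfl, hk]; ring
  obtain ⟨g, hg⟩ := exists_prime_orderOf_dvd_card' 2 heven
  have hg' : orderOf ((g : L) : pG) = 2 := by rw [Subgroup.orderOf_coe, Subgroup.orderOf_coe, hg]
  have hsub : insert a T ⊆ fixF ((g : L) : pG) := by
    intro x hx
    rw [mem_fixF]
    rcases Finset.mem_insert.1 hx with rfl | hx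
    · exact (hL g.1.2).2 _ (by simp)
    · exact restr_ker T hinv g.2 hx
  have ho := two_fix_octad (hL g.1.2).1 hg' ⟨a, hsub (Finset.mem_insert_self _ _)⟩
  rwa [Finset.eq_of_subset_of_card_le hsub (by
    rw [octad_card ho, Finset.card_insert_of_notMem haT, hT])]

theorem not_eight {T : Finset GolayPt} (hT : T.card = 8) (haT : a ∉ T)
    (hinv : ∀ g ∈ L, g • T = T) : False := by
  classical
  have hinj : Function.Injective (restr T hinv) := by
    rw [injective_iff_map_eq_one]
    intro g hg
    refine Subtype.ext (eq_one_of_fix_nine (hL g.2).1 ?_)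
    refine le_trans ?_ (Finset.card_le_card (s := insert a T) fun x hx => ?_)
    · rw [Finset.card_insert_of_notMem haT, hT]
    · rw [mem_fixF]
      rcases Finset.mem_insert.1 hx with rfl | hx
      · exact (hL g.2).2 _ (by simp)
      · exact restr_ker T hinv (MonoidHom.mem_ker.2 hg) hx
  have hsurj : Function.Surjective (restr T hinv) := by
    refine (Function.Injective.bijective_of_nat_card_le hinj ?_).2
    rw [card_perm_coe, hT, hc]; rfl
  -- a transposition gives an octad through six points of `T` and `a`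
  have key : ∀ u v : ↥T, u ≠ v → ∃ o ∈ octads, insert a (T \ {u.1, v.1}) ⊆ o := by
    intro u v huv
    obtain ⟨g, hg⟩ := hsurj (Equiv.swap u v)
    have hg2 : orderOf (g : pG) = 2 := by
      rw [Subgroup.orderOf_coe, ← orderOf_injective _ hinj g, hg]
      exact Equiv.Perm.IsSwap.orderOf ⟨u, v, huv, rfl⟩
    have hsub : insert a (T \ {u.1, v.1}) ⊆ fixF (g : pG) := by
      intro x hx
      rw [mem_fixF]
      rcases Finset.mem_insert.1 hx with rfl | hx
      · exact (hL g.2).2 _ (by simp)
      · obtain ⟨hxT, hxuv⟩ := Finset.mem_sdiff.1 hx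
        simp only [Finset.mem_insert, Finset.mem_singleton, not_or] at hxuv
        rw [← restr_apply T hinv g ⟨x, hxT⟩, hg, Equiv.swap_apply_of_ne_of_ne
          (fun e => hxuv.1 (congrArg Subtype.val e)) (fun e => hxuv.2 (congrArg Subtype.val e))]
    exact ⟨_, two_fix_octad (hL g.2).1 hg2 ⟨a, hsub (Finset.mem_insert_self _ _)⟩, hsub⟩
  obtain ⟨Q, hQT, hQ⟩ := Finset.exists_subset_card_eq (show 4 ≤ T.card by omega)
  obtain ⟨p₁, p₂, p₃, p₄, h12, h13, h14, h23, h24, h34, rfl⟩ := Finset.card_eq_four.1 hQ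
  simp only [Finset.insert_subset_iff, Finset.singleton_subset_iff] at hQT
  obtain ⟨hp1, hp2, hp3, hp4⟩ := hQT
  obtain ⟨o, ho, hos⟩ := key ⟨p₁, hp1⟩ ⟨p₂, hp2⟩ (fun e => h12 (congrArg Subtype.val e))
  obtain ⟨o', ho', hos'⟩ := key ⟨p₃, hp3⟩ ⟨p₄, hp4⟩ (fun e => h34 (congrArg Subtype.val e))
  have hR : (insert a (T \ {p₁, p₂, p₃, p₄})).card = 5 := by
    rw [Finset.card_insert_of_notMem (fun h => haT (Finset.mem_sdiff.1 h).1),
      Finset.card_sdiff_of_subset (by simp [Finset.insert_subset_iff, hp1, hp2, hp3, hp4]), hT, hQ]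
  have heq : o = o' := by
    refine octads_eq_of_subset hR.ge ho ho' (fun x hx => hos ?_) (fun x hx => hos' ?_) <;>
    · simp only [Finset.mem_insert, Finset.mem_sdiff, Finset.mem_singleton, not_or] at hx ⊢
      rcases hx with h | h
      · exact Or.inl h
      · exact Or.inr ⟨h.1, by tauto⟩
  subst heq
  have hall : insert a T ⊆ o := by
    intro x hx
    rcases Finset.mem_insert.1 hx with rfl | hx
    · exact hos (Finset.mem_insert_self _ _)
    by_cases h : x = p₁ ∨ x = p₂
    · refine hos' (Finset.mem_insert_of_mem (Finset.mem_sdiff.2 ⟨hx, ?_⟩))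
      simp only [Finset.mem_insert, Finset.mem_singleton]
      rcases h with rfl | rfl
      · simp [h13, h14]
      · simp [h23, h24]
    · refine hos (Finset.mem_insert_of_mem (Finset.mem_sdiff.2 ⟨hx, ?_⟩))
      simpa using h
  have := Finset.card_le_card hall
  rw [Finset.card_insert_of_notMem haT, hT, octad_card ho] at this
  omega

/-- Orbit sets: their sizes. -/
theorem relIndex_eq : L.relIndex (fixers M24 [a]) = 253 := by
  have h := (L.subgroupOf (fixers M24 [a])).card_mul_index
  rw [Nat.card_congr (Subgroup.subgroupOfEquivOfLe hL).toEquiv, hc, card_M23] at h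
  simp only [Subgroup.relIndex]
  omega

theorem pair_or_octad :
    (∃ s : Finset GolayPt, s.card = 2 ∧ a ∉ s ∧ ∀ g ∈ L, g • s = s) ∨
      ∃ o ∈ octads, a ∈ o ∧ ∀ g ∈ L, g • o = o := by
  classical
  let U : Finset GolayPt := {a}ᶜ
  have hUmem : ∀ z, z ∈ U ↔ z ≠ a := fun z => by simp [U]
  have hU : ∀ g ∈ fixers M24 [a], g • U = U := by
    intro g hg
    refine Finset.eq_of_subset_of_card_le ?_ (by rw [Finset.card_smul_finset])
    intro z hz
    obtain ⟨w, hw, rfl⟩ := Finset.mem_smul_finset.1 hz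
    rw [hUmem] at hw ⊢
    exact fun h => hw (g.injective (h.trans (hg.2 a List.mem_cons_self).symm))
  have h23 : U.card = 23 := by
    rw [Finset.card_compl, Finset.card_singleton]; decide
  have hsub : ∀ {T : Finset GolayPt}, T ⊆ U → a ∉ T := fun h ha => ((hUmem a).1 (h ha)) rfl
  -- sizes of invariant sets
  have hsize : ∀ S : Finset GolayPt, S ⊆ U → (∀ g ∈ L, g • S = S) →
      S.card ∈ ([0, 1, 2, 7, 8, 15, 16, 21, 22, 23] : List ℕ) := by
    intro S hSU hS
    obtain ⟨d₄, hd₄, hdiv₄⟩ := invariant_set U hU (min S.card 4)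
      (fun T T' hT hT' h1 h2 => exists_image (hsub hT) (hsub hT') (h1.trans h2.symm) (by omega))
      hL S hSU hS
    obtain ⟨d₃, hd₃, hdiv₃⟩ := invariant_set U hU (min S.card 3)
      (fun T T' hT hT' h1 h2 => exists_image (hsub hT) (hsub hT') (h1.trans h2.symm) (by omega))
      hL S hSU hS
    rw [relIndex_eq hL hc] at hd₄ hd₃
    rw [h23] at hdiv₄ hdiv₃
    have key : ∀ k ≤ 23, ∀ d ∈ Nat.divisors 253, ∀ e ∈ Nat.divisors 253,
        (23 : ℕ).choose (min k 4) ∣ d * k.choose (min k 4) →
        (23 : ℕ).choose (min k 3) ∣ e * k.choose (min k 3) →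
        k ∈ ([0, 1, 2, 7, 8, 15, 16, 21, 22, 23] : List ℕ) := by decide +kernel
    exact key _ (h23 ▸ Finset.card_le_card hSU) d₄ (Nat.mem_divisors.2 ⟨hd₄, by norm_num⟩) d₃
      (Nat.mem_divisors.2 ⟨hd₃, by norm_num⟩) hdiv₄ hdiv₃
  have horbdvd : ∀ {p : GolayPt} {S : Finset GolayPt}, p ∈ S → (∀ g ∈ L, g • S = S) →
      (∀ x ∈ S, ∃ g ∈ L, g p = x) → S.card ∣ 40320 := by
    intro p S hp hS horb
    have e : MulAction.orbit L p = (S : Set GolayPt) := by
      ext x
      constructor
      · rintro ⟨g, rfl⟩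
        rw [Finset.mem_coe, ← hS g g.2]
        exact (mem_smul_iff _ _ _).2 hp
      · intro hx
        obtain ⟨g, hg, rfl⟩ := horb x hx
        exact ⟨⟨g, hg⟩, rfl⟩
    have := (MulAction.stabilizer L p).index_dvd_card
    rwa [MulAction.index_stabilizer, e, Set.ncard_coe_finset, hc] at this
  obtain ⟨c, hca⟩ := exists_ne a
  obtain ⟨S, hcS, hS, horb⟩ := exists_orbit_set (H := L) c
  have hSU : S ⊆ U := by
    intro z hz
    rw [hUmem]
    rintro rfl
    obtain ⟨g, hg, e⟩ := horb z hz
    exact hca (g.injective (e.trans ((hL hg).2 _ (by simp)).symm))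
  obtain ⟨T, hTU, hT, hk⟩ : ∃ T : Finset GolayPt, T ⊆ U ∧ (∀ g ∈ L, g • T = T) ∧
      (T.card = 1 ∨ T.card = 2 ∨ T.card = 7 ∨ T.card = 8) := by
    have h1 := hsize S hSU hS
    have h2 := horbdvd hcS hS horb
    have h0 : 0 < S.card := Finset.card_pos.2 ⟨c, hcS⟩
    simp only [List.mem_cons, List.not_mem_nil, or_false] at h1
    by_cases hle : S.card ≤ 8
    · exact ⟨S, hSU, hS, by omega⟩
    · refine ⟨U \ S, Finset.sdiff_subset, fun g hg => ?_, ?_⟩
      · rw [Finset.smul_finset_sdiff, hU g (hL hg), hS g hg]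
      · rw [Finset.card_sdiff_of_subset hSU, h23]
        have : S.card ≠ 22 := fun h => by rw [h] at h2; norm_num at h2
        have : S.card ≠ 23 := fun h => by rw [h] at h2; norm_num at h2
        omega
  rcases hk with hk | hk | hk | hk
  · -- no subgroup of index eleven in the fixer of two points
    exfalso
    obtain ⟨b, rfl⟩ := Finset.card_eq_one.1 hk
    have hba : b ≠ a := (hUmem b).1 (hTU (Finset.mem_singleton_self b))
    have hLb : L ≤ fixers M24 [a, b] := by
      intro g hg
      refine ⟨(hL hg).1, fun y hy => ?_⟩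
      simp only [List.mem_cons, List.not_mem_nil, or_false] at hy
      rcases hy with rfl | rfl
      · exact (hL hg).2 _ (by simp)
      · have := hT g hg
        rw [Finset.smul_finset_singleton, Finset.singleton_inj] at this
        exact this
    let V : Finset GolayPt := {a, b}ᶜ
    have hVmem : ∀ z, z ∈ V ↔ z ≠ a ∧ z ≠ b := fun z => by simp [V]
    have hV22 : V.card = 22 := by
      rw [Finset.card_compl, Finset.card_pair (Ne.symm hba)]; decide
    have hV : ∀ g ∈ fixers M24 [a, b], g • V = V := by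
      intro g hg
      refine Finset.eq_of_subset_of_card_le ?_ (by rw [Finset.card_smul_finset])
      intro z hz
      obtain ⟨w, hw, rfl⟩ := Finset.mem_smul_finset.1 hz
      rw [hVmem] at hw ⊢
      exact ⟨fun h => hw.1 (g.injective (h.trans (hg.2 a (by simp)).symm)),
        fun h => hw.2 (g.injective (h.trans (hg.2 b (by simp)).symm))⟩
    have him : ∀ T T' : Finset GolayPt, T ⊆ V → T' ⊆ V → T.card = T'.card → T.card ≤ 3 →
        ∃ g ∈ fixers M24 [a, b], g • T = T' := by
      intro T T' hT hT' he h3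
      have ha : a ∉ T := fun h => ((hVmem a).1 (hT h)).1 rfl
      have ha' : a ∉ T' := fun h => ((hVmem a).1 (hT' h)).1 rfl
      have hb : b ∉ T := fun h => ((hVmem b).1 (hT h)).2 rfl
      have hb' : b ∉ T' := fun h => ((hVmem b).1 (hT' h)).2 rfl
      obtain ⟨g, hg, he'⟩ := exists_map_injOn (x := a :: b :: T.toList) (y := a :: b :: T'.toList)
        (by simp [Ne.symm hba, ha, hb, T.nodup_toList])
        (by simp [Ne.symm hba, ha', hb', T'.nodup_toList]) (by simp [he]) (by simp; omega)
      refine ⟨g, ⟨hg, fun y hy => ?_⟩,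
        Finset.eq_of_subset_of_card_le ?_ (by rw [Finset.card_smul_finset, he])⟩
      · simp only [List.mem_cons, List.not_mem_nil, or_false] at hy
        rcases hy with rfl | rfl
        · exact he' 0 (by simp)
        · exact he' 1 (by simp)
      · intro z hz
        obtain ⟨w, hw, rfl⟩ := Finset.mem_smul_finset.1 hz
        obtain ⟨i, hi, rfl⟩ := List.getElem_of_mem (Finset.mem_toList.2 hw)
        have := he' (i + 2) (by simpa using hi)
        simp only [List.getElem_cons_succ] at this
        rw [Equiv.Perm.smul_def, this]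
        exact Finset.mem_toList.1 (List.getElem_mem _)
    obtain ⟨z, hz⟩ : V.Nonempty := Finset.card_pos.1 (by omega)
    obtain ⟨S', hzS', hS', horb'⟩ := exists_orbit_set (H := L) z
    have hS'V : S' ⊆ V := by
      intro w hw
      obtain ⟨g, hg, rfl⟩ := horb' w hw
      rw [← hV g (hLb hg)]
      exact (mem_smul_iff _ _ _).2 hz
    have hidx : L.relIndex (fixers M24 [a, b]) = 11 := by
      have h := (L.subgroupOf (fixers M24 [a, b])).card_mul_index
      rw [Nat.card_congr (Subgroup.subgroupOfEquivOfLe hLb).toEquiv, hc,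
        card_two (Ne.symm hba)] at h
      simp only [Subgroup.relIndex]
      omega
    obtain ⟨d₂, hd₂, hdiv₂⟩ := invariant_set V hV (min S'.card 2)
      (fun T T' hT hT' h1 h2 => him T T' hT hT' (h1.trans h2.symm) (by omega)) hLb S' hS'V hS'
    obtain ⟨d₃, hd₃, hdiv₃⟩ := invariant_set V hV (min S'.card 3)
      (fun T T' hT hT' h1 h2 => him T T' hT hT' (h1.trans h2.symm) (by omega)) hLb S' hS'V hS'
    rw [hidx] at hd₂ hd₃
    rw [hV22] at hdiv₂ hdiv₃
    have key : ∀ k ≤ 22, ∀ d ∈ Nat.divisors 11, ∀ e ∈ Nat.divisors 11,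
        (22 : ℕ).choose (min k 2) ∣ d * k.choose (min k 2) →
        (22 : ℕ).choose (min k 3) ∣ e * k.choose (min k 3) → k = 0 ∨ k = 22 := by decide +kernel
    have h0 : 0 < S'.card := Finset.card_pos.2 ⟨z, hzS'⟩
    have h22 := key _ (hV22 ▸ Finset.card_le_card hS'V) d₂ (Nat.mem_divisors.2 ⟨hd₂, by norm_num⟩)
      d₃ (Nat.mem_divisors.2 ⟨hd₃, by norm_num⟩) hdiv₂ hdiv₃
    have hdvd := horbdvd hzS' hS' horb'
    rw [show S'.card = 22 by omega] at hdvd
    norm_num at hdvd
  · exact Or.inl ⟨T, hk, hsub hTU, hT⟩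
  · refine Or.inr ⟨insert a T, octad_of_seven hL hc hk (hsub hTU) hT, Finset.mem_insert_self _ _,
      fun g hg => ?_⟩
    rw [Finset.smul_finset_insert, hT g hg, show g • a = a from (hL hg).2 _ (by simp)]
  · exact (not_eight hL hc hk (hsub hTU) hT).elim

omit hL hc

theorem card_pair_le {a : GolayPt} {s : Finset GolayPt} (hs : s.card = 2) (ha : a ∉ s) :
    Nat.card ↥(fixers M24 [a] ⊓ MulAction.stabilizer pG s) ≤ 40320 := by
  classical
  obtain ⟨y, z, hyz, rfl⟩ := Finset.card_eq_two.1 hs
  simp only [Finset.mem_insert, Finset.mem_singleton, not_or] at ha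
  set K := fixers M24 [a] ⊓ MulAction.stabilizer pG ({y, z} : Finset GolayPt) with hK
  rw [← (MulAction.stabilizer K y).card_mul_index, MulAction.index_stabilizer]
  have hmap : ∀ g : K, (g : pG) y = y ∨ (g : pG) y = z := fun g => by
    have := (mem_smul_iff (g : pG) {y, z} y).2 (by simp)
    rw [show (g : pG) • ({y, z} : Finset GolayPt) = {y, z} from g.2.2] at this
    simpa using this
  have horb : (MulAction.orbit K y).ncard ≤ 2 := by
    refine le_trans (Set.ncard_le_ncard (t := {y, z}) ?_ (Set.toFinite _)) (Set.ncard_pair hyz).le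
    rintro _ ⟨g, rfl⟩
    exact hmap g
  have hst : Nat.card (MulAction.stabilizer K y) ≤ 20160 := by
    let f : MulAction.stabilizer K y → fixers M24 [a, y, z] := fun g => ⟨(g.1 : pG), g.1.2.1.1, by
      intro w hw
      simp only [List.mem_cons, List.not_mem_nil, or_false] at hw
      have hy : (g.1 : pG) y = y := g.2
      rcases hw with rfl | rfl | rfl
      · exact g.1.2.1.2 _ (by simp)
      · exact hy
      · have := (mem_smul_iff (g.1 : pG) {y, w} w).2 (by simp)
        rw [show (g.1 : pG) • ({y, w} : Finset GolayPt) = {y, w} from g.1.2.2] at this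
        simp only [Finset.mem_insert, Finset.mem_singleton] at this
        rcases this with h | h
        · exact absurd ((g.1 : pG).injective (h.trans hy.symm)) (Ne.symm hyz)
        · exact h⟩
    have h3 := Nat.card_le_card_of_injective f fun g g' h =>
      Subtype.ext (Subtype.ext (congrArg (fun w => w.1) h :))
    rwa [card_fixers (by simp [ha.1, ha.2, hyz]) (by simp)] at h3
  calc _ ≤ 20160 * 2 := Nat.mul_le_mul hst horb
    _ = 40320 := rfl

theorem card_octad_le {a : GolayPt} {o : Finset GolayPt} (ho : o ∈ octads) (ha : a ∈ o) :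
    Nat.card ↥(fixers M24 [a] ⊓ MulAction.stabilizer pG o) ≤ 40320 := by
  classical
  have horb : (o : Set GolayPt) ⊆ MulAction.orbit (Golay.OctadStab.OK o) a := by
    intro x hx
    obtain ⟨u, hu, huo, hua⟩ := Golay.Orbit.normal_octad_mem ho ha
    obtain ⟨v, hv, hvo, hvx⟩ := Golay.Orbit.normal_octad_mem ho hx
    refine ⟨⟨v⁻¹ * u, M24.mul_mem (M24.inv_mem hv) hu, ?_⟩, ?_⟩
    · show (v⁻¹ * u) • o = o
      rw [mul_smul, huo, ← hvo, inv_smul_smul]
    · show (v⁻¹ * u) a = x
      rw [Equiv.Perm.mul_apply, hua, ← hvx]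
      exact v.symm_apply_apply x
  have hmul := (MulAction.stabilizer (Golay.OctadStab.OK o) a).card_mul_index
  rw [MulAction.index_stabilizer, Golay.OctadStab.card_OK ho] at hmul
  have h8 : 8 ≤ (MulAction.orbit (Golay.OctadStab.OK o) a).ncard := by
    rw [← octad_card ho, ← Set.ncard_coe_finset]
    exact Set.ncard_le_ncard horb (Set.toFinite _)
  have hle : Nat.card ↥(fixers M24 [a] ⊓ MulAction.stabilizer pG o) ≤
      Nat.card (MulAction.stabilizer (Golay.OctadStab.OK o) a) := by
    refine Nat.card_le_card_of_injective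
      (fun g => ⟨⟨(g : pG), g.2.1.1, g.2.2⟩, g.2.1.2 a (by simp)⟩) fun g g' h => Subtype.ext ?_
    exact (congrArg (fun w => w.1.1) h :)
  nlinarith

/-- The classification of subgroups of index 253. -/
theorem index_253 (x : GolayPt) (H : Subgroup ↥(MulAction.stabilizer M24 x)) (hH : H.index = 253) :
    (∃ s : Finset GolayPt, s.card = 2 ∧ x ∉ s ∧
        H = (MulAction.stabilizer M24 s).subgroupOf (MulAction.stabilizer M24 x)) ∨
      ∃ o ∈ octads, x ∈ o ∧
        H = (MulAction.stabilizer M24 o).subgroupOf (MulAction.stabilizer M24 x) := by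
  classical
  let f : H →* pG := (M24.subtype.comp (MulAction.stabilizer M24 x).subtype).comp H.subtype
  have hf : Function.Injective f := fun g g' e => Subtype.ext (Subtype.ext (Subtype.ext e))
  have hle : f.range ≤ fixers M24 [x] := by
    rintro _ ⟨g, rfl⟩
    refine ⟨g.1.1.2, fun w hw => ?_⟩
    obtain rfl := List.mem_singleton.1 hw
    exact g.1.2
  have hcard : Nat.card f.range = 40320 := by
    rw [← Nat.card_congr (MonoidHom.ofInjective hf).toEquiv]
    have h := H.card_mul_index
    rw [hH, card_stabilizer_point] at h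
    omega
  have key : ∀ s : Finset GolayPt, (∀ g ∈ f.range, g • s = s) →
      Nat.card ↥(fixers M24 [x] ⊓ MulAction.stabilizer pG s) ≤ 40320 →
      H = (MulAction.stabilizer M24 s).subgroupOf (MulAction.stabilizer M24 x) := by
    intro s hs hbound
    have heq : f.range = fixers M24 [x] ⊓ MulAction.stabilizer pG s :=
      Subgroup.eq_of_le_of_card_ge (le_inf hle hs) (by rw [hcard]; exact hbound)
    ext g
    rw [Subgroup.mem_subgroupOf, MulAction.mem_stabilizer_iff]
    constructor
    · intro hg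
      exact hs _ ⟨⟨g, hg⟩, rfl⟩
    · intro hg
      obtain ⟨g', hg'⟩ : (g.1 : pG) ∈ f.range := by
        rw [heq]
        exact ⟨⟨g.1.2, fun w hw => by rw [List.mem_singleton.1 hw]; exact g.2⟩, hg⟩
      have : g' = g := Subtype.ext (Subtype.ext hg')
      rw [← this]; exact g'.2
  rcases pair_or_octad hle hcard with ⟨s, hs2, hxs, hs⟩ | ⟨o, ho, hxo, hs⟩
  · exact Or.inl ⟨s, hs2, hxs, key s hs (card_pair_le hs2 hxs)⟩
  · exact Or.inr ⟨o, ho, hxo, key o hs (card_octad_le ho hxo)⟩

end Cfsg.Agent.GroupStructure3.MathieuSub
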